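import Cfsg.Agent.H957.T5Main

/-!
# Pairs of semilinear maps of order 3 modulo scalars in cross characteristic (S3826, PSL row)

`mp_main3` : if `dim V ≥ 3`, `3 ≠ 0` in `F` and `c`, `d` are semilinear, non-scalar with scalar
cubes, then some `SL(V)`-conjugate `d'` of `d` and some `i`, `j` satisfy: no 3-power of
`c ^ i * d' ^ j` is scalar.
-/

set_option autoImplicit false

namespace Cfsg.Agent.H241.WfPsl

open Module Finset
open Cfsg.Agent.H957.T5V Cfsg.Agent.H957.T5Conf Cfsg.Agent.H957.T5Two Cfsg.Agent.H957.T5Semi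
open Cfsg.Agent.H957.T5Num Cfsg.Agent.H957.T5Field Cfsg.Agent.H957.T5Lin
open Cfsg.Agent.H957.T5Pairs Cfsg.Agent.H957.T5Main

variable {F V : Type*} [Field F] [AddCommGroup V] [Module F V]
variable {p : ℕ} {σ τ : F ≃+* F} {c d : Equiv.Perm V}

theorem li4_iff {a b c d : V} : LinearIndependent F ![a, b, c, d] ↔
    ∀ x y z w : F, x • a + y • b + z • c + w • d = 0 → x = 0 ∧ y = 0 ∧ z = 0 ∧ w = 0 := by
  rw [Fintype.linearIndependent_iff]
  constructor
  · intro h x y z w hxyz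
    have h1 := h ![x, y, z, w] (by simpa [Fin.sum_univ_four] using hxyz)
    exact ⟨h1 0, h1 1, h1 2, h1 3⟩
  · intro h g hg i
    rw [Fin.sum_univ_four] at hg
    obtain ⟨h1, h2, h3, h4⟩ := h (g 0) (g 1) (g 2) (g 3) (by simpa using hg)
    fin_cases i
    · exact h1
    · exact h2
    · exact h3
    · exact h4

/-- **Configuration J.** Both elements have two independent vectors whose images are independent
of them: a Jordan block. -/
theorem mp_J [FiniteDimensional F V] (hp : (p : F) ≠ 0) (hc : Semi σ c) (hd : Semi τ d)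
    {v0 v1 u0 u1 : V} (hv : LinearIndependent F ![v0, c⁻¹ v0, v1, c⁻¹ v1])
    (hu : LinearIndependent F ![u0, d u0, u1, d u1])
    (hA : 4 < finrank F V ∨ FullDet F c ∨ FullDet F d) : MP F p c d := by
  have hv' : LinearIndependent F ![v0, c⁻¹ v0, v1, c⁻¹ v1 + c⁻¹ v0] := by
    rw [li4_iff] at hv ⊢
    intro x y z w h
    obtain ⟨h1, h2, h3, h4⟩ := hv x (y + w) z w (by rw [← h]; module)
    subst h1 h3 h4
    exact ⟨rfl, by simpa using h2, rfl, rfl⟩
  have hv0 : v0 ≠ 0 := by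
    have := hv.ne_zero 0
    simpa using this
  refine mp_of_family' hu hv' hA ?_
  intro d' g hg hd' m
  have g0 : g u0 = v0 := hg 0
  have g1 : g (d u0) = c⁻¹ v0 := hg 1
  have g2 : g u1 = v1 := hg 2
  have g3 : g (d u1) = c⁻¹ v1 + c⁻¹ v0 := hg 3
  have hsd : Semi τ d' := semi_of_conj hd hd'
  refine not_scal_jordan (hc.mul hsd) (v0 := v0) (v1 := v1) hv0 ?_ ?_ (cast_pow_ne hp m)
  · rw [Equiv.Perm.mul_apply]
    have := hd' u0
    rw [g0, g1] at this
    rw [this, apply_inv_self]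
  · rw [Equiv.Perm.mul_apply]
    have := hd' u1
    rw [g2, g3] at this
    rw [this, hc.add, apply_inv_self, apply_inv_self]

/-- **Configuration D.** Eigenvalues `1, ζ` and `1, ζ⁻¹`. -/
theorem mp_D [FiniteDimensional F V] (hp : (p : F) ≠ 0) (hc : Semi (1 : F ≃+* F) c)
    (hd : Semi (1 : F ≃+* F) d) {e1 e2 f1 f2 : V} {ζ : F} (hζ0 : ζ ≠ 0) (hζ1 : ζ ≠ 1)
    (hli : LinearIndependent F ![e1, e2]) (hc1 : c e1 = e1) (hc2 : c e2 = ζ • e2)
    (hli' : LinearIndependent F ![f1, f2]) (hd1 : d f1 = f1) (hd2 : d f2 = ζ⁻¹ • f2)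
    (hA : 2 < finrank F V ∨ FullDet F c ∨ FullDet F d) : MP F p c d := by
  have hζ2 : ζ⁻¹ - 1 ≠ 0 := by
    intro h
    exact hζ1 (inv_eq_one.1 (sub_eq_zero.1 h))
  set ρ : F := (ζ⁻¹ - 1)⁻¹ with hρ
  have hli2 : LinearIndependent F ![e1, e2 + ρ • e1] := by
    rw [li2_iff] at hli ⊢
    intro x y h
    obtain ⟨h1, h2⟩ := hli (x + y * ρ) y (by rw [← h]; module)
    subst h2
    exact ⟨by simpa using h1, rfl⟩
  refine mp_of_family' hli' hli2 hA ?_
  intro d' g hg hd' m
  have g0 : g f1 = e1 := hg 0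
  have g1 : g f2 = e2 + ρ • e1 := hg 1
  have hds : Semi (1 : F ≃+* F) d' := semi_of_conj hd hd'
  have h1 : d' e1 = e1 := by rw [← g0, hd', hd1]
  have h2 : d' (e2 + ρ • e1) = ζ⁻¹ • (e2 + ρ • e1) := by rw [← g1, hd', hd2, map_smul]
  have h3 : d' e2 = ζ⁻¹ • e2 + e1 := by
    rw [hds.add, hds.smul, h1, RingAut.one_apply] at h2
    rw [eq_sub_of_add_eq h2]
    have h4 : (ζ⁻¹ - 1) * ρ = 1 := mul_inv_cancel₀ hζ2
    calc ζ⁻¹ • (e2 + ρ • e1) - ρ • e1 = ζ⁻¹ • e2 + ((ζ⁻¹ - 1) * ρ) • e1 := by module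
      _ = ζ⁻¹ • e2 + e1 := by rw [h4, one_smul]
  have hx : Semi (1 : F ≃+* F) (c * d') := by
    have := hc.mul hds
    rwa [mul_one] at this
  have he1 : e1 ≠ 0 := by
    have := hli.ne_zero 0
    simpa using this
  refine not_scal_jordan hx (v0 := e1) (v1 := e2) he1 ?_ ?_ (cast_pow_ne hp m)
  · rw [Equiv.Perm.mul_apply, h1, hc1]
  · rw [Equiv.Perm.mul_apply, h3, hc.add, hc.smul, hc1, hc2, RingAut.one_apply,
      inv_smul_smul₀ hζ0]

/-- **Configuration F.** Two field automorphisms, `dim V ≥ 3`. -/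
theorem mp_F [FiniteDimensional F V] (hp : (p : F) ≠ 0) (hc : Semi σ c) (hd : Semi (σ⁻¹) d)
    {e1 e2 f1 f2 : V} {t : F} (ht : σ t ≠ t)
    (hli : LinearIndependent F ![e1, e2]) (hc1 : c e1 = e1) (hc2 : c e2 = e2)
    (hli' : LinearIndependent F ![f1, f2]) (hd1 : d f1 = f1) (hd2 : d f2 = f2)
    (hn : 2 < finrank F V) : MP F p c d := by
  have hli2 : LinearIndependent F ![e1, e2 + t • e1] := by
    rw [li2_iff] at hli ⊢
    intro x y h
    obtain ⟨h1, h2⟩ := hli (x + y * t) y (by rw [← h]; module)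
    subst h2
    exact ⟨by simpa using h1, rfl⟩
  refine mp_of_family' hli' hli2 (Or.inl hn) ?_
  intro d' g hg hd' m
  have g0 : g f1 = e1 := hg 0
  have g1 : g f2 = e2 + t • e1 := hg 1
  have hds : Semi (σ⁻¹) d' := semi_of_conj hd hd'
  have h1 : d' e1 = e1 := by rw [← g0, hd', hd1]
  have h2 : d' (e2 + t • e1) = e2 + t • e1 := by rw [← g1, hd', hd2]
  have h3 : d' e2 = e2 + (t - (σ⁻¹ : F ≃+* F) t) • e1 := by
    rw [hds.add, hds.smul, h1] at h2
    rw [eq_sub_of_add_eq h2]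
    module
  have hx : Semi (1 : F ≃+* F) (c * d') := by
    have := hc.mul hds
    rwa [mul_inv_cancel] at this
  have hst : σ ((σ⁻¹ : F ≃+* F) t) = t := RingEquiv.apply_symm_apply σ t
  have hk : σ t - t ≠ 0 := sub_ne_zero.2 ht
  have h4 : (c * d') e1 = e1 := by rw [Equiv.Perm.mul_apply, h1, hc1]
  have h5 : (c * d') e2 = e2 + (σ t - t) • e1 := by
    rw [Equiv.Perm.mul_apply, h3, hc.add, hc.smul, hc1, hc2, map_sub, hst]
  have he1 : (σ t - t) • e1 ≠ 0 := by
    have := hli.ne_zero 0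
    exact smul_ne_zero hk (by simpa using this)
  refine not_scal_jordan hx (v0 := (σ t - t) • e1) (v1 := e2) he1 ?_ h5 (cast_pow_ne hp m)
  rw [hx.smul, h4, RingAut.one_apply]

/-! ### `3 ∤ q - 1` -/

theorem quad_zero [Finite F] (h3 : (3 : F) ≠ 0) (hq : ¬ 3 ∣ Nat.card F - 1) {x y : F}
    (h : x ^ 2 - x * y + y ^ 2 = 0) : x = 0 ∧ y = 0 := by
  classical
  have : Fintype F := Fintype.ofFinite F
  by_cases hy : y = 0
  · subst hy
    have h1 : x ^ 2 = 0 := by linear_combination h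
    exact ⟨pow_eq_zero_iff (two_ne_zero) |>.1 h1, rfl⟩
  · exfalso
    apply hq
    set t : F := -(x / y) with ht
    have h1 : t ^ 2 + t + 1 = 0 := by
      rw [ht]
      field_simp
      linear_combination h
    have h2 : t ^ 3 = 1 := by linear_combination (t - 1) * h1
    have h4 : t ≠ 1 := by
      intro h5
      rw [h5] at h1
      apply h3
      linear_combination h1
    have h5 := prim_of_root Nat.prime_three h2 h4
    have h6 : orderOf (Units.mk0 t (h5.ne_zero (by norm_num))) = 3 := by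
      rw [← orderOf_units, Units.val_mk0]
      exact h5.eq_orderOf.symm
    rw [Nat.card_eq_fintype_card, ← Fintype.card_units, ← h6]
    exact orderOf_dvd_card

/-- `c` satisfies `c² + c + 1 = 0` on `u`. -/
def K3 (c : Equiv.Perm V) (u : V) : Prop := u + c u + c (c u) = 0

theorem blk [Finite F] (h3 : (3 : F) ≠ 0) (hq : ¬ 3 ∣ Nat.card F - 1)
    (hc : Semi (1 : F ≃+* F) c) {B : Submodule F V} (hB : ∀ b ∈ B, c b ∈ B) {u : V}
    (hu : K3 c u) (huB : u ∉ B) {x y : F} (h : x • u + y • c u ∈ B) : x = 0 ∧ y = 0 := by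
  have h1 : c (x • u + y • c u) ∈ B := hB _ h
  have hcc : c (c u) = -u - c u := by
    rw [K3] at hu
    rw [eq_neg_of_add_eq_zero_right hu]
    abel
  rw [hc.add, hc.smul, hc.smul, RingAut.one_apply, RingAut.one_apply, hcc] at h1
  have h2 : (x ^ 2 - x * y + y ^ 2) • u ∈ B := by
    have h5 : (x ^ 2 - x * y + y ^ 2) • u
        = (x - y) • (x • u + y • c u) - y • (x • c u + y • (-u - c u)) := by module
    rw [h5]
    exact Submodule.sub_mem _ (Submodule.smul_mem _ _ h) (Submodule.smul_mem _ _ h1)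
  apply quad_zero h3 hq
  by_contra hne
  exact huB ((Submodule.smul_mem_iff _ hne).1 h2)

theorem c_zero (hc : Semi (1 : F ≃+* F) c) : c 0 = 0 := hc.zero

theorem blk2 [Finite F] (h3 : (3 : F) ≠ 0) (hq : ¬ 3 ∣ Nat.card F - 1)
    (hc : Semi (1 : F ≃+* F) c) {u : V} (hu : K3 c u) (hu0 : u ≠ 0) :
    LinearIndependent F ![u, c u] := by
  rw [li2_iff]
  intro x y h
  refine blk h3 hq hc (B := ⊥) ?_ hu (by simpa using hu0) (by rw [h]; exact Submodule.zero_mem _)
  intro b hb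
  rw [Submodule.mem_bot] at hb ⊢
  rw [hb, hc.zero]

theorem blk4 [Finite F] (h3 : (3 : F) ≠ 0) (hq : ¬ 3 ∣ Nat.card F - 1)
    (hc : Semi (1 : F ≃+* F) c) {u v : V} (hu : K3 c u) (hv : K3 c v) (hv0 : v ≠ 0)
    (huv : u ∉ Submodule.span F {v, c v}) :
    LinearIndependent F ![v, c v, u, c u] := by
  have hcc : c (c v) = -v - c v := by
    rw [K3] at hv
    rw [eq_neg_of_add_eq_zero_right hv]
    abel
  have h2 := blk2 h3 hq hc hv hv0
  rw [li4_iff]
  rw [li2_iff] at h2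
  intro a b x y h
  have hmem : x • u + y • c u ∈ Submodule.span F {v, c v} := by
    rw [Submodule.mem_span_pair]
    refine ⟨-a, -b, ?_⟩
    have : x • u + y • c u = (a • v + b • c v + x • u + y • c u) + (-a) • v + (-b) • c v := by
      module
    rw [this, h]
    module
  obtain ⟨hx, hy⟩ := blk h3 hq hc (B := Submodule.span F {v, c v}) (by
    intro w hw
    obtain ⟨a, b, rfl⟩ := Submodule.mem_span_pair.1 hw
    rw [hc.add, hc.smul, hc.smul, hcc, RingAut.one_apply, RingAut.one_apply,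
      Submodule.mem_span_pair]
    exact ⟨-b, a - b, by module⟩) hu huv hmem
  subst hx hy
  obtain ⟨ha, hb⟩ := h2 a b (by rw [← h]; module)
  exact ⟨ha, hb, rfl, rfl⟩

theorem cube_apply (hcp : c ^ 3 = 1) (v : V) : c (c (c v)) = v := by
  have h := congrArg (fun e : Equiv.Perm V => e v) hcp
  simpa [pow_succ, Equiv.Perm.mul_apply] using h

/-- The decomposition of a vector. -/
theorem fix_add (hc : Semi (1 : F ≃+* F) c) (hcp : c ^ 3 = 1) (v : V) :
    c (v + c v + c (c v)) = v + c v + c (c v) := by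
  rw [hc.add, hc.add, cube_apply hcp]
  abel

theorem k3_sub (hc : Semi (1 : F ≃+* F) c) (hcp : c ^ 3 = 1) (v : V) : K3 c (c v - v) := by
  rw [K3, hc.sub, hc.sub, cube_apply hcp]
  abel

/-- `K3` vectors form a submodule. -/
def kSub (hc : Semi (1 : F ≃+* F) c) : Submodule F V where
  carrier := {u | K3 c u}
  add_mem' := by
    intro a b ha hb
    change a + b + c (a + b) + c (c (a + b)) = 0
    rw [hc.add, hc.add]
    have ha' : a + c a + c (c a) = 0 := ha
    have hb' : b + c b + c (c b) = 0 := hb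
    calc a + b + (c a + c b) + (c (c a) + c (c b))
        = (a + c a + c (c a)) + (b + c b + c (c b)) := by abel
      _ = 0 := by rw [ha', hb', add_zero]
  zero_mem' := by
    change (0 : V) + c 0 + c (c 0) = 0
    rw [hc.zero, hc.zero]; simp
  smul_mem' := by
    intro a u hu
    change a • u + c (a • u) + c (c (a • u)) = 0
    have hu' : u + c u + c (c u) = 0 := hu
    rw [hc.smul, hc.smul, RingAut.one_apply, RingAut.one_apply, ← smul_add, ← smul_add, hu',
      smul_zero]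

theorem mem_kSub {hc : Semi (1 : F ≃+* F) c} {u : V} : u ∈ kSub hc ↔ K3 c u := Iff.rfl

/-- The fixed vectors. -/
def fSub (hc : Semi (1 : F ≃+* F) c) : Submodule F V where
  carrier := {u | c u = u}
  add_mem' := by
    intro a b ha hb
    change c (a + b) = a + b
    rw [hc.add]
    exact congrArg₂ _ ha hb
  zero_mem' := hc.zero
  smul_mem' := by
    intro a u hu
    change c (a • u) = a • u
    rw [hc.smul, RingAut.one_apply]
    exact congrArg _ hu

theorem mem_fSub {hc : Semi (1 : F ≃+* F) c} {u : V} : u ∈ fSub hc ↔ c u = u := Iff.rfl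

theorem sup_eq_top (h3 : (3 : F) ≠ 0) (hc : Semi (1 : F ≃+* F) c) (hcp : c ^ 3 = 1) :
    fSub hc ⊔ kSub hc = ⊤ := by
  rw [eq_top_iff]
  intro v _
  have h1 : v = (3 : F)⁻¹ • (v + c v + c (c v)) + (3 : F)⁻¹ • (-(c v - v) - (c (c v) - v)) := by
    rw [← smul_add]
    have : v + c v + c (c v) + (-(c v - v) - (c (c v) - v)) = (3 : F) • v := by module
    rw [this, inv_smul_smul₀ h3]
  rw [h1]
  refine Submodule.add_mem_sup ?_ ?_
  · exact Submodule.smul_mem _ _ (fix_add hc hcp v)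
  · refine Submodule.smul_mem _ _ (Submodule.sub_mem _ (Submodule.neg_mem _ ?_) ?_)
    · exact k3_sub hc hcp v
    · have h2 : c (c v) - v = (c (c v) - c v) + (c v - v) := by abel
      rw [h2]
      exact Submodule.add_mem _ (k3_sub hc hcp (c v)) (k3_sub hc hcp v)

theorem fk_zero (h3 : (3 : F) ≠ 0) {u : V} (h1 : c u = u) (h2 : K3 c u) : u = 0 := by
  rw [K3, h1, h1] at h2
  have h4 : (3 : F) • u = 0 := by
    rw [← h2]; module
  rcases smul_eq_zero.1 h4 with h | h
  · exact absurd h h3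
  · exact h

theorem exists_k3 (hc : Semi (1 : F ≃+* F) c) (hcp : c ^ 3 = 1) (hns : ¬ IsScal F c) :
    ∃ v, K3 c v ∧ v ≠ 0 := by
  by_contra hcon
  push Not at hcon
  apply hns
  refine ⟨1, fun v => ?_⟩
  rw [one_smul]
  exact sub_eq_zero.1 (hcon _ (k3_sub hc hcp v))

/-- A two-dimensional span is not everything in larger submodules. -/
theorem exists_not_mem_span [FiniteDimensional F V] {W : Submodule F V} (hW : 2 < finrank F W)
    (a b : V) : ∃ w ∈ W, w ∉ Submodule.span F {a, b} := by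
  classical
  by_contra hcon
  push Not at hcon
  have h1 : finrank F W ≤ finrank F (Submodule.span F ({a, b} : Set V)) :=
    Submodule.finrank_mono hcon
  have h2 : finrank F (Submodule.span F (({a, b} : Finset V) : Set V)) ≤ ({a, b} : Finset V).card :=
    finrank_span_finset_le_card _
  have h3 : ({a, b} : Finset V).card ≤ 2 := Finset.card_le_two
  rw [Finset.coe_insert, Finset.coe_singleton] at h2
  omega

/-- Dimension at least 4. -/
theorem exists_J [Finite F] [FiniteDimensional F V] (h3 : (3 : F) ≠ 0)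
    (hq : ¬ 3 ∣ Nat.card F - 1) (hc : Semi (1 : F ≃+* F) c) (hcp : c ^ 3 = 1)
    (hns : ¬ IsScal F c) (hn : 4 ≤ finrank F V) :
    ∃ v0 v1 : V, LinearIndependent F ![v0, c v0, v1, c v1] := by
  obtain ⟨v, hv, hv0⟩ := exists_k3 hc hcp hns
  have hcc : c (c v) = -v - c v := by
    have hv' := hv
    rw [K3] at hv'
    rw [eq_neg_of_add_eq_zero_right hv']
    abel
  have hvc := blk2 h3 hq hc hv hv0
  by_cases hk : 2 < finrank F (kSub hc)
  · obtain ⟨u, hu, huv⟩ := exists_not_mem_span hk v (c v)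
    exact ⟨v, u, blk4 h3 hq hc hu hv hv0 huv⟩
  · have h1 : finrank F V ≤ finrank F (fSub hc) + finrank F (kSub hc) := by
      have := Submodule.finrank_add_le_finrank_add_finrank (fSub hc) (kSub hc)
      rwa [sup_eq_top h3 hc hcp, finrank_top] at this
    have h2 : 2 ≤ finrank F (fSub hc) := by omega
    obtain ⟨f, hf⟩ := exists_linearIndependent_of_le_finrank h2
    have hli : LinearIndependent F ![(f 0 : V), (f 1 : V)] := by
      have h4 := hf.map' (fSub hc).subtype (Submodule.ker_subtype _)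
      have h5 : ((fSub hc).subtype ∘ f : Fin 2 → V) = ![(f 0 : V), (f 1 : V)] := by
        funext i; fin_cases i <;> rfl
      rwa [h5] at h4
    have hf0 : c (f 0) = f 0 := (f 0).2
    have hf1 : c (f 1) = f 1 := (f 1).2
    refine ⟨(f 0 : V) + v, (f 1 : V) + c v, ?_⟩
    rw [hc.add, hc.add, hf0, hf1, hcc]
    rw [li2_iff] at hli hvc
    rw [li4_iff]
    intro a b x y h
    -- modulo the fixed vectors
    have hsum : ((a + b) • (f 0 : V) + (x + y) • (f 1 : V))
        + ((a - y) • v + (b + x - y) • c v) = 0 := by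
      rw [← h]; module
    have hB : (a - y) • v + (b + x - y) • c v ∈ fSub hc := by
      rw [eq_neg_of_add_eq_zero_right hsum]
      exact Submodule.neg_mem _ (Submodule.add_mem _ (Submodule.smul_mem _ _ (f 0).2)
        (Submodule.smul_mem _ _ (f 1).2))
    obtain ⟨hx, hy⟩ := blk h3 hq hc (B := fSub hc) (fun b hb => by
      have hb' : c b = b := hb
      rw [hb']; exact hb) hv (fun hvf => hv0 (fk_zero h3 hvf hv)) hB
    rw [hx, hy, zero_smul, zero_smul, add_zero, add_zero] at hsum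
    obtain ⟨h5, h6⟩ := hli _ _ hsum
    have ha : (3 : F) * a = 0 := by linear_combination h5 + h6 + 2 * hx - hy
    have ha0 : a = 0 := (mul_eq_zero.1 ha).resolve_left h3
    subst ha0
    have hb0 : b = 0 := by simpa using h5
    have hy0 : y = 0 := by simpa using hx
    subst hb0 hy0
    exact ⟨rfl, rfl, by simpa using h6, rfl⟩

/-- Dimension 3. -/
theorem kry3_three [Finite F] [FiniteDimensional F V] (h3 : (3 : F) ≠ 0)
    (hq : ¬ 3 ∣ Nat.card F - 1) (hc : Semi (1 : F ≃+* F) c) (hcp : c ^ 3 = 1)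
    (hns : ¬ IsScal F c) (hn : finrank F V = 3) : Kry3 F c := by
  obtain ⟨v, hv, hv0⟩ := exists_k3 hc hcp hns
  have hcc : c (c v) = -v - c v := by
    have hv' := hv
    rw [K3] at hv'
    rw [eq_neg_of_add_eq_zero_right hv']
    abel
  by_cases hf : fSub hc = ⊥
  · exfalso
    have h1 := sup_eq_top h3 hc hcp
    rw [hf, bot_sup_eq] at h1
    obtain ⟨u, hu, huv⟩ := exists_not_mem_span (W := kSub hc)
      (by rw [h1, finrank_top]; omega) v (c v)
    have h4 := (blk4 h3 hq hc hu hv hv0 huv).fintype_card_le_finrank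
    rw [hn] at h4
    simp at h4
  · obtain ⟨f, hf, hf0⟩ := Submodule.exists_mem_ne_zero_of_ne_bot hf
    have hff : c f = f := hf
    refine ⟨v + f, ?_⟩
    rw [hc.add, hff, hc.add, hff, hcc]
    rw [li3_iff]
    intro x y z h
    have hsum : (x + y + z) • f + ((x - z) • v + (y - z) • c v) = 0 := by
      rw [← h]; module
    have hB : (x - z) • v + (y - z) • c v ∈ fSub hc := by
      rw [eq_neg_of_add_eq_zero_right hsum]
      exact Submodule.neg_mem _ (Submodule.smul_mem _ _ hf)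
    obtain ⟨hx, hy⟩ := blk h3 hq hc (B := fSub hc) (fun b hb => by
      have hb' : c b = b := hb
      rw [hb']; exact hb) hv (fun hvf => hv0 (fk_zero h3 hvf hv)) hB
    rw [hx, hy, zero_smul, zero_smul, add_zero, add_zero] at hsum
    have h5 : x + y + z = 0 := (smul_eq_zero.1 hsum).resolve_right hf0
    have hz : (3 : F) * z = 0 := by linear_combination h5 - hx - hy
    have hz0 : z = 0 := (mul_eq_zero.1 hz).resolve_left h3
    subst hz0
    exact ⟨by simpa using hx, by simpa using hy, rfl⟩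

/-- Field automorphisms in dimension at least 4. -/
theorem exists_J_field [FiniteDimensional F V] (hp : p.Prime) (hc : Semi σ c)
    (hσ : orderOf σ = p) (hcp : c ^ p = 1) (hn : 4 ≤ finrank F V) :
    ∃ v0 v1 : V, LinearIndependent F ![v0, c v0, v1, c v1] := by
  obtain ⟨b, hb, hbd⟩ := exists_fixed_basis hp.pos hc hσ hcp hn
  obtain ⟨t, ht⟩ := exists_t hp hσ
  have hb' : LinearIndependent F ![b 0, b 1, b 2, b 3] := by
    have : b = ![b 0, b 1, b 2, b 3] := by
      funext i; fin_cases i <;> rfl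
    rwa [← this]
  refine ⟨b 0 + t • b 1, b 2 + t • b 3, ?_⟩
  rw [hc.add, hc.add, hc.smul, hc.smul, hbd, hbd, hbd, hbd]
  rw [li4_iff] at hb' ⊢
  intro x y z w h
  obtain ⟨h1, h2, h3, h4⟩ := hb' (x + y) (x * t + y * σ t) (z + w) (z * t + w * σ t)
    (by rw [← h]; module)
  have hσt : σ t - t ≠ 0 := sub_ne_zero.2 ht
  have hy : y * (σ t - t) = 0 := by linear_combination h2 - t * h1
  have hw : w * (σ t - t) = 0 := by linear_combination h4 - t * h3
  have hy0 := (mul_eq_zero.1 hy).resolve_right hσt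
  have hw0 := (mul_eq_zero.1 hw).resolve_right hσt
  subst hy0 hw0
  exact ⟨by simpa using h1, rfl, by simpa using h3, rfl⟩

theorem li4_swap {a b x y : V} (h : LinearIndependent F ![a, b, x, y]) :
    LinearIndependent F ![b, a, y, x] := by
  rw [li4_iff] at h ⊢
  intro p q r s hs
  obtain ⟨h1, h2, h3, h4⟩ := h q p s r (by rw [← hs]; abel)
  exact ⟨h2, h1, h4, h3⟩

theorem mp_J' [FiniteDimensional F V] (hp : (p : F) ≠ 0) (hc : Semi σ c) (hd : Semi τ d)
    (h1 : ∃ v0 v1 : V, LinearIndependent F ![v0, c v0, v1, c v1])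
    (h2 : ∃ v0 v1 : V, LinearIndependent F ![v0, d v0, v1, d v1])
    (hA : 4 < finrank F V ∨ FullDet F c ∨ FullDet F d) : MP F p c d := by
  obtain ⟨v0, v1, hv⟩ := h1
  obtain ⟨u0, u1, hu⟩ := h2
  refine mp_J hp hc hd (v0 := c v0) (v1 := c v1) ?_ hu hA
  rw [inv_apply_self, inv_apply_self]
  exact li4_swap hv

variable [Finite F] [FiniteDimensional F V] [Nontrivial V]

/-- `3 ∤ q - 1`, both linear. -/
theorem mp3_11 (h3 : (3 : F) ≠ 0) (hn : 3 ≤ finrank F V) (hq : ¬ 3 ∣ Nat.card F - 1)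
    (hc : Semi (1 : F ≃+* F) c) (hcp : c ^ 3 = 1)
    (hcn : ¬ IsScal F c) (hd : Semi (1 : F ≃+* F) d) (hdp : d ^ 3 = 1) (hdn : ¬ IsScal F d) :
    MP F 3 c d := by
  have hpF : ((3 : ℕ) : F) ≠ 0 := by exact_mod_cast h3
  have hfd := fullDet_lin hpF hc (isScal_of_pow_one hcp)
  rcases hn.lt_or_eq with hlt | heq
  · exact mp_J' hpF hc hd (exists_J h3 hq hc hcp hcn hlt) (exists_J h3 hq hd hdp hdn hlt)
      (Or.inr (Or.inl hfd))
  · exact mp_K' hpF hc hd (kry3_three h3 hq hc hcp hcn heq.symm)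
      (kry3_three h3 hq hd hdp hdn heq.symm) (Or.inr (Or.inl hfd))

/-- `3 ∤ q - 1`, one linear, one field automorphism. -/
theorem mp3_13 (h3 : (3 : F) ≠ 0) (hn : 3 ≤ finrank F V) (hq : ¬ 3 ∣ Nat.card F - 1)
    (hc : Semi (1 : F ≃+* F) c) (hcp : c ^ 3 = 1)
    (hcn : ¬ IsScal F c) (hd : Semi τ d) (hτ : orderOf τ = 3) (hdp : d ^ 3 = 1) :
    MP F 3 c d := by
  have hpF : ((3 : ℕ) : F) ≠ 0 := by exact_mod_cast h3
  have hfd := fullDet_lin hpF hc (isScal_of_pow_one hcp)
  rcases hn.lt_or_eq with hlt | heq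
  · exact mp_J' hpF hc hd (exists_J h3 hq hc hcp hcn hlt)
      (exists_J_field Nat.prime_three hd hτ hdp hlt) (Or.inr (Or.inl hfd))
  · exact mp_field_kry Nat.prime_three hpF hc hd (kry3_three h3 hq hc hcp hcn heq.symm) hτ hdp
      (Or.inr (Or.inl hfd))

/-- `3 ∣ q - 1`, both diagonalisable. -/
theorem mp3_00 (h3 : (3 : F) ≠ 0) (hq : 3 ∣ Nat.card F - 1) (hc : Semi (1 : F ≃+* F) c)
    (hd : Semi (1 : F ≃+* F) d) (hcp : c ^ 3 = 1) (hdp : d ^ 3 = 1) (hcn : ¬ IsScal F c)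
    (hdn : ¬ IsScal F d) : MP F 3 c d := by
  have hp := Nat.prime_three
  have hpF : ((3 : ℕ) : F) ≠ 0 := by exact_mod_cast h3
  obtain ⟨s, e1, e2, ζ, hli, h1, h2, hζp, hζ1⟩ := exists_two_eigen hp hq hc hcp hcn
  obtain ⟨s', f1, f2, ζ', hli', h1', h2', hζp', hζ1'⟩ := exists_two_eigen hp hq hd hdp hdn
  refine MP.of_scl hc hd (scl_smulA s c) (scl_smulA s' d) ?_
  have hprim := prim_of_root hp hζp hζ1
  have hprim' := prim_of_root hp hζp' hζ1'
  have hζ0 : ζ ≠ 0 := hprim.ne_zero hp.ne_zero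
  obtain ⟨j, -, hj⟩ := hprim'.eq_pow_of_pow_eq_one (ξ := ζ⁻¹) (by rw [inv_pow, hζp, inv_one])
  refine MP.of_pow 1 j ?_
  rw [pow_one]
  have hsd : Semi (1 : F ≃+* F) ((smulA s' d) ^ j) := by
    have := (hd.smulA s').pow j
    rwa [one_pow] at this
  refine mp_D hpF (hc.smulA s) hsd hζ0 hζ1 hli h1 h2 hli' (pow_fix h1' j) ?_
    (Or.inr (Or.inl (fullDet_smulA (fullDet_lin hpF hc (isScal_of_pow_one hcp)))))
  rw [← hj]
  have h4 := pow_eigen (hd.smulA s') h2' j
  rwa [nm_one] at h4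

/-- Two field automorphisms. -/
theorem mp3_33 (h3 : (3 : F) ≠ 0) (hn : 3 ≤ finrank F V) (hc : Semi σ c) (hσ : orderOf σ = 3)
    (hd : Semi τ d) (hτ : orderOf τ = 3) (hcp : c ^ 3 = 1) (hdp : d ^ 3 = 1) : MP F 3 c d := by
  have hp := Nat.prime_three
  have hpF : ((3 : ℕ) : F) ≠ 0 := by exact_mod_cast h3
  have hn2 : 2 ≤ finrank F V := by omega
  obtain ⟨j, hj⟩ := exists_pow_inv hp hσ hτ
  obtain ⟨b, hb, hbc⟩ := exists_fixed_basis hp.pos hc hσ hcp hn2
  obtain ⟨b', hb', hbd⟩ := exists_fixed_basis hp.pos hd hτ hdp hn2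
  obtain ⟨t, ht⟩ := exists_t hp hσ
  have h1 : LinearIndependent F ![b 0, b 1] := by
    have : b = ![b 0, b 1] := by
      funext i; fin_cases i <;> rfl
    rwa [← this]
  have h2 : LinearIndependent F ![b' 0, b' 1] := by
    have : b' = ![b' 0, b' 1] := by
      funext i; fin_cases i <;> rfl
    rwa [← this]
  refine MP.of_pow 1 j ?_
  rw [pow_one]
  have hdj : Semi (σ⁻¹) (d ^ j) := by
    rw [← hj]
    exact hd.pow j
  exact mp_F hpF hc hdj ht h1 (hbc 0) (hbc 1) h2 (pow_fix (hbd 0) j) (pow_fix (hbd 1) j) hn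

/-- One diagonalisable or `3 ∤ q - 1`, one field automorphism. -/
theorem mp3_lf (h3 : (3 : F) ≠ 0) (hn : 3 ≤ finrank F V)
    (hc : Semi (1 : F ≃+* F) c) (hcp : c ^ 3 = 1)
    (hcn : ¬ IsScal F c) (hd : Semi τ d) (hτ : orderOf τ = 3) (hdp : d ^ 3 = 1) :
    MP F 3 c d := by
  have hpF : ((3 : ℕ) : F) ≠ 0 := by exact_mod_cast h3
  by_cases hq : 3 ∣ Nat.card F - 1
  · exact MP.symm hd (mp_30 Nat.prime_three (by omega) hpF hq hd hτ hc hdp hcp hcn)
  · exact mp3_13 h3 hn hq hc hcp hcn hd hτ hdp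

theorem exists_nf3 (hc : Semi σ c) (hcp : IsScal F (c ^ 3)) :
    ∃ s : Fˣ, (σ = 1 ∧ (smulA s c) ^ 3 = 1) ∨
      (σ = 1 ∧ Kry3 F (smulA s c) ∧ 3 ∣ Nat.card F - 1) ∨
      (orderOf σ = 3 ∧ (smulA s c) ^ 3 = 1) := by
  classical
  have hp := Nat.prime_three
  have hFt : Fintype F := Fintype.ofFinite F
  have : Fact (Nat.Prime 3) := ⟨hp⟩
  obtain ⟨l, hl⟩ := hcp
  obtain ⟨v0, hv0⟩ := exists_ne (0 : V)
  have hl0 : l ≠ 0 := by
    rintro rfl
    have h1 := hl v0
    rw [zero_smul] at h1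
    exact hv0 ((c ^ 3).injective (h1.trans (hc.pow 3).zero.symm))
  have hσp : σ ^ 3 = 1 := by
    ext a
    have h1 := (hc.pow 3).smul a v0
    rw [hl, hl, smul_smul, smul_smul] at h1
    have h2 : (l * a - (σ ^ 3) a * l) • v0 = 0 := by rw [sub_smul, h1, sub_self]
    rcases smul_eq_zero.1 h2 with h | h
    · have h3 : l * (a - (σ ^ 3) a) = 0 := by linear_combination h
      have h4 := (mul_eq_zero.1 h3).resolve_left hl0
      exact (sub_eq_zero.1 h4).symm
    · exact absurd h hv0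
  by_cases hσ : σ = 1
  · subst hσ
    by_cases ht : ∃ t : F, t ^ 3 = l
    · obtain ⟨t, ht⟩ := ht
      have ht0 : t ≠ 0 := by
        rintro rfl
        rw [zero_pow hp.ne_zero] at ht
        exact hl0 ht.symm
      refine ⟨(Units.mk0 t ht0)⁻¹, Or.inl ⟨rfl, ?_⟩⟩
      ext v
      rw [smulA_pow_lin hc, hl, smul_smul, Units.val_inv_eq_inv_val, Units.val_mk0, ← ht,
        ← mul_pow, inv_mul_cancel₀ ht0, one_pow, one_smul]
      rfl
    · push Not at ht
      refine ⟨1, Or.inr (Or.inl ⟨rfl, ?_, ?_⟩)⟩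
      · obtain ⟨f, hf, hfc⟩ := exists_end hc
        have h1 := li3_of_irr (f := (f : End F V)) hp le_rfl ht
          (fun v => by rw [pow_end hf, hl]) hv0
        refine ⟨v0, ?_⟩
        have h2 : ∀ v, smulA (1 : Fˣ) c v = f v := fun v => by
          rw [smulA_apply, Units.val_one, one_smul, hf]
        rw [h2, h2]
        exact h1
      · by_contra hq
        have hcop : (Nat.card Fˣ).Coprime 3 := by
          rw [Nat.card_eq_fintype_card, Fintype.card_units, ← Nat.card_eq_fintype_card]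
          exact ((Nat.Prime.coprime_iff_not_dvd hp).2 hq).symm
        obtain ⟨y, hy⟩ := (powCoprime hcop).surjective (Units.mk0 l hl0)
        apply ht y
        have := congrArg Units.val hy
        rwa [powCoprime_apply, Units.val_pow_eq_pow_val, Units.val_mk0] at this
  · have ho : orderOf σ = 3 := orderOf_eq_prime hσp hσ
    obtain ⟨s, hs⟩ := Cfsg.Agent.CpAut.Descent.exists_scale (g := c) (σ := σ) ⟨hc.add, hc.smul⟩ ho
      hp.pos hl0 hl ⟨v0, hv0⟩
    refine ⟨s, Or.inr (Or.inr ⟨ho, ?_⟩)⟩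
    have h1 : smulA s c = Cfsg.Agent.CpAut.Descent.scal V s * c := by
      ext v
      rw [smulA_apply, Equiv.Perm.mul_apply, Cfsg.Agent.CpAut.Descent.scal_apply]
    rw [h1, hs]

omit [Nontrivial V] in
/-- **Main theorem for `p = 3`.** -/
theorem mp_main3 (h3 : (3 : F) ≠ 0)
    (hn : 3 ≤ finrank F V) (hc : Semi σ c) (hcp : IsScal F (c ^ 3))
    (hcn : ¬ IsScal F c) (hd : Semi τ d) (hdp : IsScal F (d ^ 3)) (hdn : ¬ IsScal F d) :
    MP F 3 c d := by
  have : Nontrivial V := nontrivial_of_finrank_pos (R := F) (by omega)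
  have hp := Nat.prime_three
  have hpF : ((3 : ℕ) : F) ≠ 0 := by exact_mod_cast h3
  obtain ⟨s, hs⟩ := exists_nf3 hc hcp
  obtain ⟨t, ht⟩ := exists_nf3 hd hdp
  refine MP.of_scl hc hd (scl_smulA s c) (scl_smulA t d) ?_
  have hcn' := not_isScal_smulA (s := s) hcn
  have hdn' := not_isScal_smulA (s := t) hdn
  have hc' := hc.smulA s
  have hd' := hd.smulA t
  have hfc : σ = 1 → FullDet F (smulA s c) := fun h => by
    subst h
    exact fullDet_smulA (fullDet_lin hpF hc hcp)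
  rcases hs with ⟨rfl, hs⟩ | ⟨rfl, hs, hq⟩ | ⟨ho, hs⟩ <;>
    rcases ht with ⟨rfl, ht⟩ | ⟨rfl, ht, hq'⟩ | ⟨ho', ht⟩
  · by_cases hq : 3 ∣ Nat.card F - 1
    · exact mp3_00 h3 hq hc' hd' hs ht hcn' hdn'
    · exact mp3_11 h3 hn hq hc' hs hcn' hd' ht hdn'
  · exact mp_12 hp hpF hq' hc' hs hcn' hd' ht
  · exact mp3_lf h3 hn hc' hs hcn' hd' ho' ht
  · exact MP.symm hd' (mp_12 hp hpF hq hd' ht hdn' hc' hs)
  · exact mp_K' hpF hc' hd' hs ht (Or.inr (Or.inl (hfc rfl)))
  · exact mp_field_kry hp hpF hc' hd' hs ho' ht (Or.inr (Or.inl (hfc rfl)))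
  · exact MP.symm hd' (mp3_lf h3 hn hd' ht hdn' hc' ho hs)
  · exact MP.symm hd' (mp_field_kry hp hpF hd' hc' ht ho hs
      (Or.inr (Or.inl (fullDet_smulA (fullDet_lin hpF hd hdp)))))
  · exact mp3_33 h3 hn hc' ho hd' ho' hs ht

end Cfsg.Agent.H241.WfPsl
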