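import Cfsg.Agent.H241.Wf.PsuB

/-!
# S3826, PSU rows, `p = 3`: the pairs without elements of non-cube type, `n ≥ 4`
-/

set_option autoImplicit false

namespace Cfsg.Agent.H241.WfPsu

open Cfsg Cfsg.Agent.LieClassical.HermBasic Cfsg.Agent.LieClassical.HermSiegel
open Cfsg.Agent.H957.T5V Cfsg.Agent.H957.T5Conf Cfsg.Agent.H957.T5Pairs Cfsg.Agent.H957.T5Two
  Cfsg.Agent.H957.T5Semi Cfsg.Agent.H957.T5U Cfsg.Agent.H957.T5Main
open Cfsg.Agent.H177.MeetPSU (rho rho_apply)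
open Module

variable {F : Type} [Field F] [Fintype F] {n q : ℕ} {σ τ : F ≃+* F} {c d : Equiv.Perm (Fin n → F)}

theorem exists_four {n : ℕ} (hn : 4 ≤ n) (i j k : Fin n) : ∃ l : Fin n, l ≠ i ∧ l ≠ j ∧ l ≠ k := by
  classical
  by_contra hcon
  push Not at hcon
  have h1 : (Finset.univ : Finset (Fin n)) ⊆ {i, j, k} := by
    intro l _
    by_cases h1 : l = i
    · simp [h1]
    · by_cases h2 : l = j
      · simp [h2]
      · simp [hcon l h1 h2]
  have h2 := Finset.card_le_card h1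
  rw [Finset.card_univ, Fintype.card_fin] at h2
  have h3 : ({i, j, k} : Finset (Fin n)).card ≤ 3 := Finset.card_le_three
  omega

/-- Pigeonhole for cube roots of unity. -/
theorem exists_pair {n : ℕ} (hn : 4 ≤ n) {η : Fin n → F} (hη : ∀ i, η i ^ 3 = 1)
    (hne : ∃ i j, η i ≠ η j) : ∃ i j k : Fin n, i ≠ j ∧ η i = η j ∧ η k ≠ η i := by
  classical
  obtain ⟨i, j, hij, h⟩ : ∃ i j : Fin n, i ≠ j ∧ η i = η j := by
    by_contra hcon
    push Not at hcon
    have hinj : Function.Injective η := by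
      intro i j h
      by_contra hij
      exact hcon i j hij h
    let P : Polynomial F := Polynomial.X ^ 3 - Polynomial.C 1
    have hP : P ≠ 0 := Polynomial.X_pow_sub_C_ne_zero (by norm_num) 1
    have hsub : (Finset.univ.image η) ⊆ P.roots.toFinset := by
      intro x hx
      obtain ⟨i, -, rfl⟩ := Finset.mem_image.1 hx
      rw [Multiset.mem_toFinset, Polynomial.mem_roots hP]
      simp [P, hη i]
    have h1 := Finset.card_le_card hsub
    rw [Finset.card_image_of_injective _ hinj, Finset.card_univ, Fintype.card_fin] at h1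
    have h2 : P.roots.toFinset.card ≤ 3 := by
      refine (Multiset.toFinset_card_le _).trans ((Polynomial.card_roots' P).trans ?_)
      rw [Polynomial.natDegree_X_pow_sub_C]
    omega
  obtain ⟨a, b, hab⟩ := hne
  by_cases ha : η a = η i
  · exact ⟨i, j, b, hij, h, fun hb => hab (ha.trans hb.symm)⟩
  · exact ⟨i, j, a, hij, h, ha⟩

theorem ad_of_onb (hF : Fintype.card F = q ^ 2) {b : Fin n → (Fin n → F)}
    (hb : ∀ i j, hermForm n F q (b i) (b j) = if i = j then 1 else 0) {i j k l : Fin n}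
    (hij : i ≠ j) (hik : i ≠ k) (hjk : j ≠ k) (hli : l ≠ i) (hlj : l ≠ j) (hlk : l ≠ k)
    {a ζ : F} (ha : a * a ^ q = -1) (hc0 : c (b i + a • b j) = b i + a • b j)
    (hc1 : c (b k) = ζ • b k) : AD q c ζ (b i + a • b j) (b k) (b l) := by
  refine ⟨?_, by rw [hb]; simp, ?_, ?_, hc0, hc1, by rw [hb]; simp, ?_, ?_⟩
  · simp only [herm_add_left, herm_add_right hF, herm_smul_left, herm_smul_right, hb, if_true,
      if_neg hij, if_neg hij.symm]
    linear_combination ha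
  · rw [herm_add_right hF, herm_smul_right, hb, hb, if_neg hik.symm, if_neg hjk.symm]
    ring
  · intro h
    have := congrArg (fun v => hermForm n F q v (b i)) h
    simp only [herm_add_left, herm_smul_left, herm_zero_left, hb, if_true, if_neg hij.symm] at this
    simp at this
  · rw [herm_add_right hF, herm_smul_right, hb, hb, if_neg hli, if_neg hlj]
    ring
  · rw [hb, if_neg hlk]

/-- Diagonal elements, scaled. -/
theorem ad_eig (hF : Fintype.card F = q ^ 2) (hpq : 3 ∣ q + 1) (hn : 4 ≤ n)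
    (hc : SI q (1 : F ≃+* F) c) (hcp : c ^ 3 = 1) (hns : ¬ IsScal F c) :
    ∃ s : Fˣ, (s : F) * (s : F) ^ q = 1 ∧ ∃ ζ v0 v1 z, ζ ^ 3 = 1 ∧ ζ ≠ 1 ∧
      AD q (smulA s c) ζ v0 v1 z := by
  obtain ⟨b, η, hb, hη, hη3, hηq, hne⟩ := exists_eig_data hF Nat.prime_three hpq (by omega) hc hcp
    hns
  obtain ⟨i, j, k, hij, hηij, hηk⟩ := exists_pair hn hη3 hne
  have hik : i ≠ k := by rintro rfl; exact hηk rfl
  have hjk : j ≠ k := by rintro rfl; exact hηk hηij.symm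
  obtain ⟨l, hli, hlj, hlk⟩ := exists_four hn i j k
  have hηi0 : η i ≠ 0 := by
    intro h
    have := hη3 i
    rw [h] at this
    simp at this
  obtain ⟨a, ha0, ha⟩ := exists_norm_eq_ne hF (neg_one_pow_q hF) (neg_ne_zero.2 one_ne_zero)
  have hs : ∀ v, smulA (Units.mk0 (η i) hηi0)⁻¹ c v = (η i)⁻¹ • c v := fun v => by
    rw [smulA_apply, Units.val_inv_eq_inv_val, Units.val_mk0]
  refine ⟨(Units.mk0 (η i) hηi0)⁻¹, ?_, (η i)⁻¹ * η k, _, _, _, ?_, ?_,
    ad_of_onb hF hb hij hik hjk hli hlj hlk ha ?_ ?_⟩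
  · rw [Units.val_inv_eq_inv_val, Units.val_mk0, inv_pow, ← mul_inv, hηq, inv_one]
  · rw [mul_pow, inv_pow, hη3, hη3, inv_one, one_mul]
  · intro h
    apply hηk
    have h1 := congrArg (fun x => η i * x) h
    simp only [mul_one] at h1
    rwa [mul_inv_cancel_left₀ hηi0] at h1
  · rw [hs, hc.semi.add, hc.semi.smul, hη, hη, ← hηij, RingAut.one_apply, smul_add,
      inv_smul_smul₀ hηi0, smul_comm a, inv_smul_smul₀ hηi0]
  · rw [hs, hη, smul_smul]

theorem ad_field (hF : Fintype.card F = q ^ 2) (hσ : orderOf σ = 3) (hc : SI q σ c)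
    (hcp : c ^ 3 = 1) (hn : 4 ≤ n) : ∃ v0 v1 z, AD q c 1 v0 v1 z := by
  obtain ⟨b, hb, hcb⟩ := exists_onb_fix hF Nat.prime_three (by norm_num) hσ hc hcp n le_rfl
  obtain ⟨a, ha0, haσ, ha⟩ := norm_fix hF Nat.prime_three (by norm_num) hσ (a := -1)
    (neg_ne_zero.2 one_ne_zero) (by rw [map_neg, map_one]) (neg_one_pow_q hF)
  refine ⟨_, _, _, ad_of_onb hF hb (i := ⟨0, by omega⟩) (j := ⟨1, by omega⟩)
    (k := ⟨2, by omega⟩) (l := ⟨3, by omega⟩) (by simp) (by simp) (by simp) (by simp) (by simp)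
    (by simp) ha ?_ ?_⟩
  · rw [hc.semi.add, hc.semi.smul, hcb, hcb, haσ]
  · rw [hcb, one_smul]

theorem AD.pow (hc : SI q (1 : F ≃+* F) c) {ζ : F} {v0 v1 z : Fin n → F} (h : AD q c ζ v0 v1 z)
    (j : ℕ) : AD q (c ^ j) (ζ ^ j) v0 v1 z where
  h00 := h.h00
  h11 := h.h11
  h10 := h.h10
  ne := h.ne
  c0 := pow_fix h.c0 j
  c1 := eig_pow hc h.c1 j
  zz := h.zz
  z0 := h.z0
  z1 := h.z1

section core

variable (hF : Fintype.card F = q ^ 2) (h3 : (3 : F) ≠ 0)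

include hF h3

/-- Two elements of order 3 of linear type, `n ≥ 4` or `3 ∣ q - 1`. -/
theorem up3_AA (hn : 3 ≤ n) (hn4 : 4 ≤ n ∨ 3 ∣ q - 1)
    (hc : SI q (1 : F ≃+* F) c) (hcp : c ^ 3 = 1) (hcn : ¬ IsScal F c)
    (hd : SI q (1 : F ≃+* F) d) (hdp : d ^ 3 = 1) (hdn : ¬ IsScal F d) : UP q 3 c d := by
  have hpF : ((3 : ℕ) : F) ≠ 0 := by exact_mod_cast h3
  have hnq := not_dvd_q hF Nat.prime_three hpF
  have hq0 := q_pos hF
  by_cases hq1 : 3 ∣ q - 1
  · obtain ⟨t, ht⟩ := exists_not_fixed hF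
    have hε : t ^ q - t ≠ 0 := sub_ne_zero.2 ht
    have hεq : (t ^ q - t) ^ q = -(t ^ q - t) := by
      rw [sub_pow_q hF, pow_q_pow_q hF]; ring
    obtain ⟨ω, hω⟩ := exists_omega hF hnq
    obtain ⟨e, f, h⟩ := hyp_split hF hq1 h3 hc hcp hcn hε hεq hω
    obtain ⟨e', f', h'⟩ := hyp_split hF hq1 h3 hd hdp hdn hε hεq hω
    exact up_SS hF hn h3 hε hεq hc hd hω h h'
  · have hn4 : 4 ≤ n := hn4.resolve_right hq1
    have hq2 : 3 ∣ q + 1 := by omega
    obtain ⟨s, hs, ζ, v0, v1, z, hζ3, hζ1, h⟩ := ad_eig hF hq2 hn4 hc hcp hcn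
    obtain ⟨s', hs', ζ', v0', v1', z', hζ3', hζ1', h'⟩ := ad_eig hF hq2 hn4 hd hdp hdn
    refine UP.of_smulA hc hd s s' ?_
    have hζ0 : ζ ≠ 0 := by
      rintro rfl
      simp at hζ3
    have : NeZero 3 := ⟨by norm_num⟩
    have hprim' := prim_of_root Nat.prime_three hζ3' hζ1'
    obtain ⟨j, -, hj⟩ := hprim'.eq_pow_of_pow_eq_one (ξ := ζ⁻¹) (by rw [inv_pow, hζ3, inv_one])
    refine UP.of_pow 1 j ?_
    rw [pow_one]
    have h'' := h'.pow (hd.smulA hs') j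
    rw [hj] at h''
    have hsd : SI q (1 : F ≃+* F) ((smulA s' d) ^ j) := by
      have := (hd.smulA hs').pow j
      rwa [one_pow] at this
    exact up_AA4 hF h3 (hc.smulA hs) hsd hζ0 hζ1 h h''

/-- A field automorphism and an element of order 3 of linear type. -/
theorem up3_CA (hn : 3 ≤ n) (hn4 : 4 ≤ n ∨ 3 ∣ q - 1) (hσ : orderOf σ = 3)
    (hc : SI q σ c) (hcp : c ^ 3 = 1)
    (hd : SI q (1 : F ≃+* F) d) (hdp : d ^ 3 = 1) (hdn : ¬ IsScal F d) : UP q 3 c d := by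
  have hpF : ((3 : ℕ) : F) ≠ 0 := by exact_mod_cast h3
  have hnq := not_dvd_q hF Nat.prime_three hpF
  have hq0 := q_pos hF
  by_cases hq1 : 3 ∣ q - 1
  · obtain ⟨t, htσ, ht⟩ := exists_tau hF Nat.prime_three (by norm_num) hσ
    have hε : t ^ q - t ≠ 0 := sub_ne_zero.2 ht
    have hεq : (t ^ q - t) ^ q = -(t ^ q - t) := by
      rw [sub_pow_q hF, pow_q_pow_q hF]; ring
    obtain ⟨ω, hω⟩ := exists_omega hF hnq
    have hω3 : ω ^ 3 = 1 := by linear_combination (ω - 1) * hω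
    have hωq : ω ^ q = ω := by
      obtain ⟨m, hm⟩ := hq1
      have h2 : q = 3 * m + 1 := by omega
      rw [h2, pow_succ, pow_mul, hω3, one_pow, one_mul]
    obtain ⟨e, f, h⟩ := hyp_field hF hσ hc hcp (by omega) htσ
    obtain ⟨e', f', h'⟩ := hyp_split hF hq1 h3 hd hdp hdn hε hεq hω
    exact up_CS hF hn h3 htσ ht hσ hc hd hω hωq h h'
  · have hn4 : 4 ≤ n := hn4.resolve_right hq1
    have hq2 : 3 ∣ q + 1 := by omega
    obtain ⟨v0, v1, z, h⟩ := ad_field hF hσ hc hcp hn4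
    obtain ⟨s', hs', ζ', v0', v1', z', hζ3', hζ1', h'⟩ := ad_eig hF hq2 hn4 hd hdp hdn
    refine UP.of_scl hc hd (Scl.refl c) (scl_smulA s' d) ?_
    exact up_CA4 hF h3 hσ hc (hd.smulA hs') hζ3' hζ1' h h'

/-- Two field automorphisms. -/
theorem up3_CC (hn : 3 ≤ n) (hσ : orderOf σ = 3) (hc : SI q σ c) (hcp : c ^ 3 = 1)
    (hτ : orderOf τ = 3) (hd : SI q τ d) (hdp : d ^ 3 = 1) : UP q 3 c d := by
  obtain ⟨t, htσ, ht⟩ := exists_tau hF Nat.prime_three (by norm_num) hσ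
  have hε : t ^ q - t ≠ 0 := sub_ne_zero.2 ht
  have hεq : (t ^ q - t) ^ q = -(t ^ q - t) := by
    rw [sub_pow_q hF, pow_q_pow_q hF]; ring
  obtain ⟨j, hj⟩ := exists_pow_inv Nat.prime_three hτ hσ
  obtain ⟨j', hj'⟩ := exists_pow_inv Nat.prime_three hσ hτ
  have htτ : τ t = t := by
    have h1 : ∀ m : ℕ, (σ ^ m) t = t := by
      intro m
      induction m with
      | zero => rfl
      | succ m ih => rw [pow_succ]; change (σ ^ m) (σ t) = t; rw [htσ, ih]
    have h2 : (τ⁻¹ : F ≃+* F) t = t := by rw [← hj]; exact h1 j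
    calc τ t = τ ((τ⁻¹ : F ≃+* F) t) := by rw [h2]
      _ = t := RingEquiv.apply_symm_apply τ t
  obtain ⟨k, hk, hσk⟩ := exists_moved_Kq hF Nat.prime_three le_rfl hσ
  obtain ⟨e, f, h⟩ := hyp_field hF hσ hc hcp (by omega) htσ
  obtain ⟨e', f', h'⟩ := hyp_field hF hτ hd hdp (by omega) htτ
  refine UP.of_pow 1 j' ?_
  rw [pow_one]
  have hdj : SI q (σ⁻¹) (d ^ j') := by
    rw [← hj']
    exact hd.pow j'
  have h'' : Hyp q (t ^ q - t) (d ^ j') 1 1 e' f' := by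
    refine ⟨h'.ee, h'.ff, h'.ef, ?_, ?_⟩
    · rw [one_smul]
      exact pow_fix (by rw [h'.ce, one_smul]) j'
    · rw [one_smul]
      exact pow_fix (by rw [h'.cf, one_smul]) j'
  exact up_CC hF hn h3 hε hεq hc hdj h h'' hk hσk

end core

end Cfsg.Agent.H241.WfPsu
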