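import Cfsg.Agent.H241.Wf.PsuE
import Cfsg.Agent.H957.T5RowPSU
import Cfsg.Agent.H533.Wf.Kills

/-!
# S3826: the rows `PSU_n(q)`, `3 ∤ q`, `n ≥ 4` (and `n = 3` if `3 ∣ q - 1`)
-/

set_option autoImplicit false

namespace Cfsg.Agent.H241.WfPsu

universe u v

open Cfsg Cfsg.Agent.LieClassical.HermBasic Cfsg.Agent.LieClassical.HermSiegel
open Cfsg.Agent.LieClassical.SUBasic Matrix
open Cfsg.Agent.ClassicalGeometry.PSUAutCount Cfsg.Agent.ClassicalGeometry.UnitAutBasic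
open Cfsg.Agent.H957.T5V Cfsg.Agent.H957.T5M Cfsg.Agent.H957.T5Tr Cfsg.Agent.H957.T5U
open Cfsg.Agent.H177.MeetPSU (rho rho_apply rho_injective yy yy_apply ind_yy uniq)
open Cfsg.Agent.H903.SylSemi (Ind)

variable {F : Type} [Field F] [Fintype F] {n q : ℕ}

theorem mrow_PSU3 (hF : Fintype.card F = q ^ 2) (hn : 3 ≤ n) (hn4 : 4 ≤ n ∨ 3 ∣ q - 1)
    (h3 : (3 : F) ≠ 0) : MRow 3 (PSU n F q) := by
  have hp := Nat.prime_three
  have hq2 := two_le hF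
  have h32 : ¬ (n = 3 ∧ q = 2) := by
    rintro ⟨rfl, rfl⟩
    omega
  have : Nonempty (Fin n) := ⟨⟨0, by omega⟩⟩
  have : Nontrivial (Fin n → F) := Function.nontrivial
  refine mrow_of (F := F) hp (π := pr n F q) pr_surjective (ρ := rho n F q) rho_injective
    (fun s => (si_rho s).semi) (W := fun y => ∃ θ : F ≃+* F, SI q θ y) ?_ ?_ ?_ ?_ ?_
  · rintro y y' ⟨θ, h⟩ ⟨θ', h'⟩
    exact ⟨θ * θ', h.mul h'⟩
  · intro s
    exact ⟨1, si_rho s⟩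
  · intro β _
    obtain ⟨A, θ, rfl⟩ := Cfsg.Agent.ClassicalGeometry.PSUAutMain.exists_toAut hF hn h32 β
    refine ⟨yy A θ, ⟨θ, ⟨fun u v => ?_, fun a v => ?_⟩, fun u v => herm_semi A θ u v⟩, ind_yy A θ⟩
    · rw [yy_apply, yy_apply, yy_apply, ← Matrix.mulVec_add]
      congr 1
      funext i
      exact map_add θ _ _
    · rw [yy_apply, yy_apply, ← Matrix.mulVec_smul]
      congr 1
      funext i
      exact map_mul θ _ _
  · rintro y ⟨θ, hθ⟩ hy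
    refine uniq hF hn ⟨θ, 1, one_ne_zero, ⟨hθ.semi.add, hθ.semi.smul⟩, fun u v => ?_⟩ hy
    rw [one_mul, hθ.herm]
  · rintro y z ⟨θ, hy⟩ ⟨θ', hz⟩ hyp hyn hzp hzn
    exact up_main3 hF h3 hn hn4 hy hyp hyn hz hzp hzn

/-- The weak row for `p = 3`. -/
theorem wrow_PSU3 {K : Type v} [Group K] (hF : Fintype.card F = q ^ 2) (hn : 3 ≤ n)
    (hn4 : 4 ≤ n ∨ 3 ∣ q - 1) (h3 : (3 : F) ≠ 0) (e : Nonempty (K ≃* PSU n F q)) :
    Cfsg.Agent.H533.T5.WRow 3 K := by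
  obtain ⟨e⟩ := e
  exact (Cfsg.Agent.H957.T5RowPSL.MRow.congr e (mrow_PSU3 hF hn hn4 h3)).weak

/-- **S3826, the row `PSU_n(q)`**, cross characteristic, `n ≥ 4` or `3 ∣ q - 1`. -/
theorem wf_psu_cross {K : Type v} [Group K] (hF : Fintype.card F = q ^ 2) (hn : 3 ≤ n)
    (hn4 : 4 ≤ n ∨ 3 ∣ q - 1) (h3 : (3 : F) ≠ 0) (e : Nonempty (K ≃* PSU n F q)) :
    Cfsg.Agent.H533.Wf.WfRow.{u, v} 3 K := by
  have : Fact (Nat.Prime 3) := ⟨Nat.prime_three⟩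
  exact Cfsg.Agent.H533.Wf.WfRow.of_wrow (wrow_PSU3 hF hn hn4 h3 e)

end Cfsg.Agent.H241.WfPsu
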