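import Cfsg.Agent.H241.Wf.PsuC

/-!
# S3826, PSU rows, `p = 3`: elements of non-cube type have totally isotropic invariant subspaces of
dimension 3 (`n ≥ 4`)

`data'` is `Cfsg.Agent.H957.T5U.data` with the information that the vector lies in the cyclic
subspace of `w`.
-/

set_option autoImplicit false

namespace Cfsg.Agent.H241.WfPsu

open Cfsg Cfsg.Agent.LieClassical.HermBasic Cfsg.Agent.LieClassical.HermSiegel
open Cfsg.Agent.H957.T5V Cfsg.Agent.H957.T5Conf Cfsg.Agent.H957.T5Pairs Cfsg.Agent.H957.T5Two
  Cfsg.Agent.H957.T5Semi Cfsg.Agent.H957.T5U Cfsg.Agent.H957.T5Main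
open Cfsg.Agent.H177.MeetPSU (rho rho_apply)
open Module Polynomial

variable {F : Type} [Field F] [Fintype F] {n q : ℕ} {σ τ : F ≃+* F} {c d : Equiv.Perm (Fin n → F)}

theorem data' (hF : Fintype.card F = q ^ 2) {f : Module.End F (Fin n → F)} {j : ℕ} (hj : Odd j)
    (hf : ∀ u v, hermForm n F q (f u) (f v) = hermForm n F q u v)
    (hN : f ^ (q ^ j + 1) = 1) {P : F[X]} (hP : Irreducible P) {w : Fin n → F}
    (hPw : aeval f P w = 0) (hww : hermForm n F q w w ≠ 0) {m : ℕ} (hm : 2 * m + 1 ≤ P.natDegree)
    (T : ℕ → F) (hT0 : T 0 ^ q = T 0) :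
    ∃ β : F[X], ∀ k ≤ m, hermForm n F q ((f ^ k) (aeval f β w)) (aeval f β w) = T k := by
  classical
  have : Fact (Irreducible P) := ⟨hP⟩
  have hw0 : w ≠ 0 := by
    rintro rfl
    exact hww (herm_zero_left _)
  -- the annihilator of `w`
  have hann : ∀ a : F[X], aeval f a w = 0 → P ∣ a := by
    intro a ha
    by_contra hcon
    obtain ⟨A, B, hAB⟩ := (hP.coprime_iff_not_dvd (n := a)).2 hcon
    apply hw0
    have := congrArg (fun r => aeval f r w) hAB
    simp only [map_add, LinearMap.add_apply, map_one, Module.End.one_apply, map_mul,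
      Module.End.mul_apply, ha, hPw, map_zero, add_zero] at this
    exact this.symm
  have hker : ∀ a : F[X], P ∣ a → aeval f a w = 0 := by
    rintro _ ⟨b, rfl⟩
    rw [mul_comm, map_mul, Module.End.mul_apply, hPw, map_zero]
  -- the functional
  have hsurj : Function.Surjective (AdjoinRoot.mk P) := AdjoinRoot.mk_surjective
  let rep : AdjoinRoot P → F[X] := Function.surjInv hsurj
  have hrep : ∀ x, AdjoinRoot.mk P (rep x) = x := Function.surjInv_eq hsurj
  have hmk : ∀ a : F[X], aeval f (rep (AdjoinRoot.mk P a)) w = aeval f a w := by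
    intro a
    have h1 : AdjoinRoot.mk P (rep (AdjoinRoot.mk P a) - a) = 0 := by
      rw [map_sub, hrep, sub_self]
    have h2 := hker _ (AdjoinRoot.mk_eq_zero.1 h1)
    rw [map_sub, LinearMap.sub_apply] at h2
    exact sub_eq_zero.1 h2
  let ℓ : AdjoinRoot P →ₗ[F] F :=
    { toFun := fun x => hermForm n F q (aeval f (rep x) w) w
      map_add' := fun x y => by
        rw [← herm_add_left]
        congr 1
        have := hmk (rep x + rep y)
        rw [map_add, hrep, hrep, map_add, LinearMap.add_apply] at this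
        exact this
      map_smul' := fun c x => by
        rw [RingHom.id_apply, smul_eq_mul, ← herm_smul_left]
        congr 1
        have := hmk (c • rep x)
        rw [← AdjoinRoot.smul_mk, hrep, map_smul, LinearMap.smul_apply] at this
        exact this }
  have hℓ : ∀ a : F[X], ℓ (AdjoinRoot.mk P a) = hermForm n F q (aeval f a w) w := by
    intro a
    change hermForm n F q (aeval f (rep (AdjoinRoot.mk P a)) w) w = _
    rw [hmk]
  have hℓ1 : ℓ 1 ≠ 0 := by
    have h1 : ℓ 1 = hermForm n F q w w := by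
      have := hℓ 1
      rwa [map_one (AdjoinRoot.mk P), map_one (aeval f), Module.End.one_apply] at this
    rw [h1]
    exact hww
  -- the involution
  let σE : AdjoinRoot P →+* AdjoinRoot P :=
    { toFun := fun x => x ^ q ^ j
      map_one' := one_pow _
      map_mul' := fun x y => mul_pow x y _
      map_zero' := zero_pow (pow_ne_zero _ (q_pos hF).ne')
      map_add' := fun x y => add_pow_N hF j x y }
  have hσE : ∀ x, σE x = x ^ q ^ j := fun _ => rfl
  have hσF : ∀ t : F, σE (algebraMap F _ t) = algebraMap F _ (t ^ q) := by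
    intro t
    rw [hσE, ← map_pow, pow_odd hF hj]
  set ρ := AdjoinRoot.root P with hρ
  have hroot : ρ ^ (q ^ j + 1) = 1 := by
    have h1 : P ∣ X ^ (q ^ j + 1) - 1 := by
      apply hann
      rw [map_sub, map_pow, aeval_X, hN, map_one, sub_self]
      rfl
    have h2 := AdjoinRoot.mk_eq_zero.2 h1
    rw [map_sub, map_pow, AdjoinRoot.mk_X, map_one] at h2
    exact sub_eq_zero.1 h2
  have hρ0 : ρ ≠ 0 := by
    intro h
    rw [h, zero_pow (by omega)] at hroot
    exact zero_ne_one hroot
  have hσρ : σE ρ = ρ⁻¹ := by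
    apply eq_inv_of_mul_eq_one_left
    rw [hσE, ← pow_succ, hroot]
  have hσρ' : σE ρ⁻¹ = ρ := by rw [map_inv₀, hσρ, inv_inv]
  have hσσ : ∀ x, σE (σE x) = x := by
    have h1 : ((σE.comp σE).comp (AdjoinRoot.mk P)) = AdjoinRoot.mk P := by
      apply Polynomial.ringHom_ext
      · intro a
        change σE (σE (AdjoinRoot.mk P (C a))) = _
        rw [AdjoinRoot.mk_C, ← AdjoinRoot.algebraMap_eq, hσF, hσF, pow_q_pow_q hF]
      · change σE (σE (AdjoinRoot.mk P X)) = _
        rw [AdjoinRoot.mk_X, hσρ, hσρ']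
    intro x
    obtain ⟨a, rfl⟩ := hsurj x
    exact RingHom.congr_fun h1 a
  have hσne : σE ≠ RingHom.id _ := by
    intro h
    obtain ⟨t, ht⟩ := exists_not_fixed hF
    apply ht
    have h1 := RingHom.congr_fun h (algebraMap F _ t)
    rw [hσF] at h1
    exact (algebraMap F (AdjoinRoot P)).injective h1
  have hℓσ : ∀ x, ℓ (σE x) = ℓ x ^ q := by
    intro x
    obtain ⟨a, rfl⟩ := hsurj x
    rw [hσE, ← map_pow, hℓ, hℓ, ← herm_aeval' hF hj hf hN, herm_swap hF (aeval f a w) w]
  -- solve the equations
  obtain ⟨z', hz'⟩ := exists_solve ℓ hℓ1 (li_root' (m := m) hm hρ0)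
    (fun i => if m ≤ (i : ℕ) then T (i - m) else T (m - i) ^ q)
  have hz1 : ∀ k ≤ m, ℓ (ρ ^ k * z') = T k := by
    intro k hk
    have := hz' ⟨m + k, by omega⟩
    rw [if_pos (Nat.le_add_right m k)] at this
    simp only [Nat.add_sub_cancel_left] at this
    rw [← this]
    congr 2
    rw [pow_add, mul_comm (ρ ^ m), mul_assoc, ← mul_pow, mul_inv_cancel₀ hρ0, one_pow, mul_one]
  have hz2 : ∀ k ≤ m, ℓ (ρ⁻¹ ^ k * z') = T k ^ q := by
    intro k hk
    rcases Nat.eq_zero_or_pos k with rfl | hk0
    · rw [pow_zero, hT0]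
      have := hz1 0 (Nat.zero_le _)
      rwa [pow_zero] at this
    · have := hz' ⟨m - k, by omega⟩
      rw [if_neg (by simp only; omega)] at this
      simp only [show m - (m - k) = k by omega] at this
      rw [← this]
      congr 2
      conv_rhs => rw [show m = (m - k) + k by omega]
      rw [show m - k + k - k = m - k by omega, pow_add, ← mul_assoc, ← mul_pow,
        mul_inv_cancel₀ hρ0, one_pow, one_mul]
  obtain ⟨x, hx⟩ := exists_trace_eq hF (c := 1) (one_pow q)
  set X1 := algebraMap F (AdjoinRoot P) x with hX1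
  set X2 := algebraMap F (AdjoinRoot P) (x ^ q) with hX2
  set z := X1 * z' + X2 * σE z' with hz
  have hσz : σE z = z := by
    rw [hz, map_add, map_mul, map_mul, hσσ, hX1, hX2, hσF, hσF, pow_q_pow_q hF, add_comm]
  have hsm : ∀ (t : F) (y : AdjoinRoot P), ℓ (algebraMap F _ t * y) = t * ℓ y := by
    intro t y
    rw [← Algebra.smul_def, map_smul, smul_eq_mul]
  have hzT : ∀ k ≤ m, ℓ (ρ ^ k * z) = T k := by
    intro k hk
    have h1 : ρ ^ k * z = X1 * (ρ ^ k * z') + X2 * σE (ρ⁻¹ ^ k * z') := by
      rw [map_mul, map_pow, hσρ', hz]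
      ring
    rw [h1, map_add, hX1, hX2, hsm, hsm, hℓσ, hz1 k hk, hz2 k hk, pow_q_pow_q hF, ← add_mul, hx,
      one_mul]
  -- the norm equation
  have hfin : Finite (AdjoinRoot P) := by
    have : FiniteDimensional F (AdjoinRoot P) :=
      (AdjoinRoot.powerBasis hP.ne_zero).finite
    exact Module.finite_of_finite F
  obtain ⟨b, hb⟩ : ∃ b, b * σE b = z := by
    by_cases hz0 : z = 0
    · exact ⟨0, by rw [zero_mul, hz0]⟩
    · obtain ⟨b, -, hb⟩ := ClassicalGeometry.HermWitt.norm_surj σE hσne hσσ z hσz hz0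
      exact ⟨b, hb⟩
  obtain ⟨β, rfl⟩ := hsurj b
  refine ⟨β, fun k hk => ?_⟩
  rw [herm_aeval' hF hj hf hN, ← hzT k hk, ← hb, hσE]
  have h1 : aeval f (β ^ q ^ j) ((f ^ k) (aeval f β w))
      = aeval f (X ^ k * (β * β ^ q ^ j)) w := by
    rw [show X ^ k * (β * β ^ q ^ j) = β ^ q ^ j * (X ^ k * β) by ring, map_mul, map_mul,
      map_pow (aeval f) X, aeval_X, Module.End.mul_apply, Module.End.mul_apply]
  rw [h1, ← hℓ]
  congr 1

/-- Elements with `c³ = l`, `l` not a cube. -/
structure NC (q : ℕ) (c : Equiv.Perm (Fin n → F)) (l : F) : Prop where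
  ll : l * l ^ q = 1
  cl : ∀ v, (c ^ 3) v = l • v
  nc : ∀ t : F, t ^ 3 ≠ l

theorem ti_B (hF : Fintype.card F = q ^ 2) (h3 : (3 : F) ≠ 0) (hn : 4 ≤ n) (hpq : 3 ∣ q + 1)
    (hc : SI q (1 : F ≃+* F) c) {l : F} (h : NC q c l) : TIm q 3 c := by
  classical
  have hp := Nat.prime_three
  have hpF : ((3 : ℕ) : F) ≠ 0 := by exact_mod_cast h3
  obtain ⟨hll, hl, hlp⟩ := h
  have hl0 : l ≠ 0 := by
    rintro rfl
    rw [zero_mul] at hll
    exact zero_ne_one hll
  obtain ⟨f', hf', hfc⟩ := exists_end hc.semi
  set f : Module.End F (Fin n → F) := (f' : Module.End F (Fin n → F)) with hfdef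
  have hf0 : ∀ v, f v = c v := hf'
  have hf : ∀ u v, hermForm n F q (f u) (f v) = hermForm n F q u v := by
    intro u v
    rw [hf0, hf0]
    exact hc.herm u v
  have hfm : ∀ (m : ℕ) (v : Fin n → F), (f ^ m) v = (c ^ m) v := fun m v => pow_end hf' m v
  have hf3 : ∀ v, (f ^ 3) v = l • v := fun v => by rw [hfm, hl]
  have hP0 : ∀ v, aeval f (X ^ 3 - C l : F[X]) v = 0 := by
    intro v
    rw [map_sub, map_pow, aeval_X, aeval_C, LinearMap.sub_apply, Module.algebraMap_end_apply, hf3,
      sub_self]
  have hirr : Irreducible (X ^ 3 - C l : F[X]) := X_pow_sub_C_irreducible_of_prime hp hlp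
  have hdeg : (X ^ 3 - C l : F[X]).natDegree = 3 := natDegree_X_pow_sub_C
  have hN : f ^ (q ^ 3 + 1) = 1 := by
    obtain ⟨k, hk⟩ := dvd_pow_add hp (by norm_num) hpq
    have h1 : ∀ (m : ℕ) (v : Fin n → F), ((f ^ 3) ^ m) v = l ^ m • v := by
      intro m
      induction m with
      | zero => intro v; simp
      | succ m ih =>
        intro v
        rw [pow_succ, Module.End.mul_apply, hf3, map_smul, ih, smul_smul, pow_succ']
    refine LinearMap.ext fun v => ?_
    rw [hk, mul_assoc, pow_mul, h1, pow_mul, pow_succ' l q, hll, one_pow, one_smul]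
    rfl
  have hj : Odd 3 := by decide
  have h0q : (0 : F) ^ q = 0 := zero_pow_q hF
  -- a vector `w1` with data `(1, 0)`
  have hw : hermForm n F q (Pi.single ⟨0, by omega⟩ 1) (Pi.single ⟨0, by omega⟩ 1) ≠ 0 := by
    have he : hermForm n F q (Pi.single ⟨0, by omega⟩ 1) (Pi.single ⟨0, by omega⟩ 1) = 1 := by
      unfold hermForm
      rw [Finset.sum_eq_single (⟨0, by omega⟩ : Fin n)]
      · simp
      · intro b _ hb
        simp [hb]
      · intro h
        exact absurd (Finset.mem_univ _) h
    rw [he]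
    exact one_ne_zero
  obtain ⟨β, hβ⟩ := data' hF hj hf hN hirr (hP0 _) hw (m := 1) (by rw [hdeg])
    (fun k => if k = 0 then 1 else 0) (by simp)
  set w := aeval f β (Pi.single ⟨0, by omega⟩ 1 : Fin n → F) with hwdef
  have hw0 : hermForm n F q w w = 1 := by
    have := hβ 0 (by omega)
    simpa using this
  have hww : hermForm n F q w w ≠ 0 := by rw [hw0]; exact one_ne_zero
  have hwne : w ≠ 0 := by
    intro h
    apply hww
    rw [h, herm_zero_left]
  have hli : ∀ v : Fin n → F, v ≠ 0 → LinearIndependent F ![v, f v, f (f v)] := fun v hv =>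
    Cfsg.Agent.H957.T5Lin.li3_of_irr hp le_rfl hlp hf3 hv
  -- a vector orthogonal to the cyclic subspace
  have hfr := Cfsg.Agent.H77.Geom.finrank_perp (q := q) hF (hli w hwne)
  obtain ⟨u, hu, hu0⟩ : ∃ u ∈ Cfsg.Agent.H77.Geom.perp (F := F) (n := n) q
      (Set.range ![w, f w, f (f w)]), u ≠ 0 := by
    apply Submodule.exists_mem_ne_zero_of_ne_bot
    intro h
    rw [h, finrank_bot] at hfr
    omega
  have hU : ∀ a : F[X], aeval f a w ∈ Submodule.span F (Set.range ![w, f w, f (f w)]) := by
    have hinv : ∀ y ∈ Submodule.span F (Set.range ![w, f w, f (f w)]),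
        f y ∈ Submodule.span F (Set.range ![w, f w, f (f w)]) := by
      intro y hy
      induction hy using Submodule.span_induction with
      | mem y hy =>
        obtain ⟨i, rfl⟩ := hy
        fin_cases i
        · exact Submodule.subset_span ⟨1, rfl⟩
        · exact Submodule.subset_span ⟨2, rfl⟩
        · have h1 : f (f (f w)) = l • w := hf3 w
          change f (f (f w)) ∈ _
          rw [h1]
          exact Submodule.smul_mem _ _ (Submodule.subset_span ⟨0, rfl⟩)
      | zero => rw [map_zero]; exact Submodule.zero_mem _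
      | add x y _ _ hx hy => rw [map_add]; exact Submodule.add_mem _ hx hy
      | smul a x _ hx => rw [map_smul]; exact Submodule.smul_mem _ _ hx
    intro a
    induction a using Polynomial.induction_on' with
    | add a b ha hb => rw [map_add, LinearMap.add_apply]; exact Submodule.add_mem _ ha hb
    | monomial k t =>
      rw [← C_mul_X_pow_eq_monomial, map_mul, aeval_C, map_pow, aeval_X, Module.End.mul_apply,
        Module.algebraMap_end_apply]
      refine Submodule.smul_mem _ _ ?_
      induction k with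
      | zero => exact Submodule.subset_span ⟨0, rfl⟩
      | succ k ih => rw [pow_succ', Module.End.mul_apply]; exact hinv _ ih
  have hperp : ∀ a : F[X], hermForm n F q u (aeval f a w) = 0 := fun a =>
    Cfsg.Agent.H77.Geom.perp_span hF hu (hU a)
  have hperp' : ∀ a : F[X], hermForm n F q (aeval f a w) u = 0 := fun a =>
    herm_eq_zero_swap hF (hperp a)
  -- the correcting vector
  obtain ⟨δ, hδ⟩ := data' hF hj hf hN hirr (hP0 w) hww (m := 1) (by rw [hdeg])
    (fun k => if k = 0 then -hermForm n F q u u else -hermForm n F q (f u) u) (by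
      simp only [if_true]
      rw [neg_pow_q hF, ← herm_swap hF u u])
  set x := aeval f δ w with hx
  have hx0 : hermForm n F q x x = -hermForm n F q u u := by
    have := hδ 0 (by omega)
    simpa using this
  have hx1 : hermForm n F q (f x) x = -hermForm n F q (f u) u := by
    have := hδ 1 (by omega)
    simpa using this
  have hfx : f x = aeval f (X * δ) w := by
    rw [map_mul, aeval_X, Module.End.mul_apply]
  -- `(f u, x) = 0`
  have hfux : hermForm n F q (f u) x = 0 := by
    have h1 : x = f (aeval f (C l⁻¹ * X ^ 2 * δ) w) := by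
      have h2 : f (aeval f (C l⁻¹ * X ^ 2 * δ) w) = aeval f (C l⁻¹ * (X ^ 3) * δ) w := by
        rw [show C l⁻¹ * X ^ 3 * δ = X * (C l⁻¹ * X ^ 2 * δ) by ring, map_mul (aeval f) X,
          aeval_X, Module.End.mul_apply]
      rw [h2, map_mul, map_mul, aeval_C, map_pow, aeval_X, Module.End.mul_apply,
        Module.End.mul_apply, Module.algebraMap_end_apply, hf3, inv_smul_smul₀ hl0]
    rw [h1, hf]
    exact hperp _
  have hvv0 : hermForm n F q (x + u) (x + u) = 0 := by
    rw [herm_add_left, herm_add_right hF, herm_add_right hF, hx0, hperp' δ, hperp δ]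
    ring
  have hvv1 : hermForm n F q (f (x + u)) (x + u) = 0 := by
    rw [map_add, herm_add_left, herm_add_right hF, herm_add_right hF, hx1, hfux, hfx, hperp' _]
    ring
  have hv0 : x + u ≠ 0 := by
    intro h
    have hux : u = aeval f (-δ) w := by
      rw [map_neg, LinearMap.neg_apply, ← hx]
      exact (neg_eq_of_add_eq_zero_right h).symm
    -- `-δ` is invertible modulo `P`
    have hnd : ¬ (X ^ 3 - C l : F[X]) ∣ -δ := by
      rintro ⟨b, hb⟩
      apply hu0
      rw [hux, hb, mul_comm, map_mul, Module.End.mul_apply, hP0, map_zero]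
    obtain ⟨A, B, hAB⟩ := (hirr.coprime_iff_not_dvd (n := -δ)).2 hnd
    have h1 : w = aeval f B u := by
      have h2 := congrArg (fun r => aeval f r w) hAB
      simp only [map_add, LinearMap.add_apply, map_one, Module.End.one_apply, map_mul,
        Module.End.mul_apply, hP0, map_zero, zero_add] at h2
      rw [← h2, ← hux]
    apply hww
    conv_lhs => rw [h1]
    have h2 : hermForm n F q (aeval f B u) (aeval f B u)
        = hermForm n F q u (aeval f (B ^ q ^ 3) (aeval f B u)) := herm_aeval hF hj hf hN B u _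
    rw [h2, ← h1]
    exact hperp _
  -- the subspace
  set v := x + u with hv
  clear_value v
  have hLI := hli v hv0
  have e01 : hermForm n F q v (f v) = 0 := herm_eq_zero_swap hF hvv1
  have e12 : hermForm n F q (f v) (f (f v)) = 0 := by rw [hf]; exact e01
  have e21 : hermForm n F q (f (f v)) (f v) = 0 := by rw [hf]; exact hvv1
  have e02 : hermForm n F q v (f (f v)) = 0 := by
    have h1 : hermForm n F q (f v) (f (f (f v))) = hermForm n F q v (f (f v)) := hf _ _
    have h2 : f (f (f v)) = l • v := hf3 v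
    rw [← h1, h2, herm_smul_right, hvv1, mul_zero]
  have e20 : hermForm n F q (f (f v)) v = 0 := herm_eq_zero_swap hF e02
  have e11 : hermForm n F q (f v) (f v) = 0 := by rw [hf]; exact hvv0
  have e22 : hermForm n F q (f (f v)) (f (f v)) = 0 := by rw [hf]; exact e11
  refine ⟨Submodule.span F (Set.range ![v, f v, f (f v)]), ?_, ?_, ?_, ?_⟩
  · rw [finrank_span_eq_card hLI, Fintype.card_fin]
  · have hgen : ∀ i j : Fin 3, hermForm n F q (![v, f v, f (f v)] i) (![v, f v, f (f v)] j) = 0 := by
      intro i j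
      fin_cases i <;> fin_cases j
      · exact hvv0
      · exact e01
      · exact e02
      · exact hvv1
      · exact e11
      · exact e12
      · exact e20
      · exact e21
      · exact e22
    intro a ha b hb
    induction ha using Submodule.span_induction with
    | mem a ha =>
      obtain ⟨i, rfl⟩ := ha
      induction hb using Submodule.span_induction with
      | mem b hb => obtain ⟨j, rfl⟩ := hb; exact hgen i j
      | zero => exact herm_zero_right hF _
      | add x y _ _ hx hy => rw [herm_add_right hF, hx, hy, add_zero]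
      | smul t x _ hx => rw [herm_smul_right, hx, mul_zero]
    | zero => exact herm_zero_left _
    | add x y _ _ hx hy => rw [herm_add_left, hx, hy, add_zero]
    | smul t x _ hx => rw [herm_smul_left, hx, mul_zero]
  · intro y hy
    rw [← hf0]
    induction hy using Submodule.span_induction with
    | mem y hy =>
      obtain ⟨i, rfl⟩ := hy
      fin_cases i
      · exact Submodule.subset_span ⟨1, rfl⟩
      · exact Submodule.subset_span ⟨2, rfl⟩
      · have h1 : f (f (f v)) = l • v := hf3 v
        change f (f (f v)) ∈ _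
        rw [h1]
        exact Submodule.smul_mem _ _ (Submodule.subset_span ⟨0, rfl⟩)
    | zero => rw [map_zero]; exact Submodule.zero_mem _
    | add x y _ _ hx hy => rw [map_add]; exact Submodule.add_mem _ hx hy
    | smul a x _ hx => rw [map_smul]; exact Submodule.smul_mem _ _ hx
  · rintro ⟨t, ht⟩
    have h1 := ht v (Submodule.subset_span ⟨0, rfl⟩)
    rw [← hf0] at h1
    rw [li3_iff] at hLI
    have h2 := hLI t (-1) 0 (by rw [h1]; module)
    exact neg_ne_zero.2 one_ne_zero h2.2.1

end Cfsg.Agent.H241.WfPsu
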